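import Groth.Agent.SBActLib.Functor
import Groth.Agent.CSALib.Basic
import Mathlib.RingTheory.Grassmannian
import Mathlib.RingTheory.SimpleModule.IsAlgClosed
import Mathlib.FieldTheory.IsAlgClosed.AlgebraicClosure

/-!
# The action of the units of an algebra on its generalized Severi–Brauer schemes
-/

set_option autoImplicit false

universe u

open CategoryTheory AlgebraicGeometry
open scoped TensorProduct

namespace SBActLib

noncomputable section

variable {k : Type u} [Field k] {A : Type u} [Ring A] [Algebra k A]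

/-- Right multiplication by `u⁻¹`. -/
def rmul (R : Type u) [CommRing R] [Algebra k R] (u : Aˣ) : (R ⊗[k] A) ≃ₗ[R] (R ⊗[k] A) :=
  TensorProduct.AlgebraTensorModule.congr (LinearEquiv.refl R R)
    { LinearMap.mulRight k ((u⁻¹ : Aˣ) : A) with
      invFun := fun x => x * (u : A)
      left_inv := fun x => by simp [mul_assoc]
      right_inv := fun x => by simp [mul_assoc] }

theorem rmul_apply (R : Type u) [CommRing R] [Algebra k R] (u : Aˣ) (z : R ⊗[k] A) :
    rmul R u z = z * (1 ⊗ₜ[k] ((u⁻¹ : Aˣ) : A)) := by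
  induction z using TensorProduct.induction_on with
  | zero => simp
  | add x y hx hy => rw [map_add, hx, hy, add_mul]
  | tmul r a => simp [rmul]

variable {c : ℕ}

theorem sbset_ext {R : Type u} [CommRing R] [Algebra k R] {N M : BrSev.SBSet k A c R}
    (h : N.1.toSubmodule = M.1.toSubmodule) : N = M := Subtype.ext (Module.Grassmannian.ext h)

/-- Translation of a left ideal. -/
def twist (R : Type u) [CommRing R] [Algebra k R] (u : Aˣ) (N : BrSev.SBSet k A c R) : BrSev.SBSet k A c R :=
  have e : ((R ⊗[k] A) ⧸ N.1.toSubmodule) ≃ₗ[R]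
      ((R ⊗[k] A) ⧸ N.1.toSubmodule.map (rmul R u).toLinearMap) :=
    Submodule.Quotient.equiv _ _ (rmul R u) rfl
  ⟨{ toSubmodule := N.1.toSubmodule.map (rmul R u).toLinearMap
     finite_quotient := Module.Finite.equiv e
     projective_quotient := Module.Projective.of_equiv e
     rankAtStalk_eq := fun q => by
      rw [← Module.rankAtStalk_eq_of_equiv e]
      exact N.1.rankAtStalk_eq q }, by
    rintro a _ ⟨y, hy, rfl⟩
    exact ⟨a * y, N.2 a y hy, by simp only [LinearEquiv.coe_coe, rmul_apply, mul_assoc]⟩⟩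

theorem twist_val (R : Type u) [CommRing R] [Algebra k R] (u : Aˣ) (N : BrSev.SBSet k A c R) :
    (twist R u N).1.toSubmodule = N.1.toSubmodule.map (rmul R u).toLinearMap := rfl

theorem twist_mul (R : Type u) [CommRing R] [Algebra k R] (u v : Aˣ) (N : BrSev.SBSet k A c R) :
    twist R (u * v) N = twist R u (twist R v N) := by
  refine sbset_ext ?_
  rw [twist_val, twist_val, twist_val, ← Submodule.map_comp]
  congr 1
  refine LinearMap.ext fun z => ?_
  simp only [LinearMap.comp_apply, LinearEquiv.coe_coe, rmul_apply, mul_assoc, mul_inv_rev, Units.val_mul,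
    Algebra.TensorProduct.tmul_mul_tmul, one_mul]

theorem twist_one (R : Type u) [CommRing R] [Algebra k R] (N : BrSev.SBSet k A c R) : twist R 1 N = N := by
  refine sbset_ext ?_
  rw [twist_val, show (rmul R (1 : Aˣ)).toLinearMap = LinearMap.id from LinearMap.ext fun z => by
    simp only [LinearEquiv.coe_coe, rmul_apply, inv_one, Units.val_one, ← Algebra.TensorProduct.one_def, mul_one,
      LinearMap.id_apply], Submodule.map_id]

theorem map_twist {R S : Type u} [CommRing R] [Algebra k R] [CommRing S] [Algebra k S] (φ : R →ₐ[k] S)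
    (u : Aˣ) (N : BrSev.SBSet k A c R) :
    (Module.Grassmannian.map φ (twist R u N).1).toSubmodule =
      (Module.Grassmannian.map φ N.1).toSubmodule.map (rmul S u).toLinearMap := by
  letI : Algebra R S := φ.toAlgebra
  haveI : IsScalarTower k R S := IsScalarTower.of_algebraMap_eq fun a => (φ.commutes a).symm
  rw [Module.Grassmannian.map_toSubmodule, Module.Grassmannian.map_toSubmodule]
  let e : ((R ⊗[k] A) ⧸ N.1.toSubmodule) ≃ₗ[R]
      ((R ⊗[k] A) ⧸ N.1.toSubmodule.map (rmul R u).toLinearMap) :=
    Submodule.Quotient.equiv _ _ (rmul R u) rfl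
  have h : (Module.Grassmannian.baseChangeMkQ S (twist R u N).1.toSubmodule).comp (rmul S u).toLinearMap =
      (e.baseChange R S).toLinearMap.comp (Module.Grassmannian.baseChangeMkQ S N.1.toSubmodule) := by
    refine TensorProduct.AlgebraTensorModule.ext fun b m => ?_
    simp only [Module.Grassmannian.baseChangeMkQ, LinearMap.comp_apply, LinearEquiv.coe_coe, rmul_apply,
      Algebra.TensorProduct.tmul_mul_tmul, mul_one, TensorProduct.AlgebraTensorModule.cancelBaseChange_symm_tmul,
      LinearMap.baseChange_tmul, Submodule.mkQ_apply, LinearEquiv.coe_baseChange]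
    show _ = b ⊗ₜ[R] Submodule.Quotient.mk (rmul R u ((1 : R) ⊗ₜ[k] m))
    rw [rmul_apply, Algebra.TensorProduct.tmul_mul_tmul, one_mul]
  have h2 := congrArg LinearMap.ker h
  rw [LinearMap.ker_comp] at h2
  have h3 := h2.trans (LinearEquiv.ker_comp (e.baseChange R S) _)
  refine Eq.trans ?_ (congrArg (Submodule.map (rmul S u).toLinearMap) h3)
  exact (Submodule.map_comap_eq_of_surjective (rmul S u).surjective _).symm

variable {X : Scheme.{u}} {p : X ⟶ Spec (CommRingCat.of k)} (σ : BrSev.SBStr k A c p)

/-- The self-map of points attached to a unit. -/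
def ptsEnd (u : Aˣ) : PtsEnd p where
  app R _ _ g := (σ.bij R).symm (twist R u (σ.bij R g))
  natural R S _ _ _ _ φ g := by
    apply (σ.bij S).injective
    rw [Equiv.apply_symm_apply]
    refine sbset_ext ?_
    rw [σ.natural, Equiv.apply_symm_apply, map_twist, twist_val, σ.natural]

theorem ptsEnd_app (u : Aˣ) (R : Type u) [CommRing R] [Algebra k R] (g : BrSev.Pts p R) :
    (ptsEnd σ u).app R g = (σ.bij R).symm (twist R u (σ.bij R g)) := rfl

theorem mor_mul (u v : Aˣ) : (ptsEnd σ v).mor ≫ (ptsEnd σ u).mor = (ptsEnd σ (u * v)).mor :=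
  mor_comp_mor _ _ _ fun R _ _ g => by rw [ptsEnd_app, ptsEnd_app, ptsEnd_app, Equiv.apply_symm_apply, twist_mul]

theorem mor_one : (ptsEnd σ 1).mor = 𝟙 X :=
  mor_eq_id _ fun R _ _ g => by rw [ptsEnd_app, twist_one, Equiv.symm_apply_apply]

/-- The automorphism attached to a unit. -/
def autOf (u : Aˣ) : Aut (Over.mk p) :=
  Over.isoMk
    { hom := (ptsEnd σ u).mor
      inv := (ptsEnd σ u⁻¹).mor
      hom_inv_id := by rw [mor_mul, inv_mul_cancel, mor_one]
      inv_hom_id := by rw [mor_mul, mul_inv_cancel, mor_one] }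
    (PtsEnd.mor_struct _)

/-- The action of the units. -/
def autHom : Aˣ →* Aut (Over.mk p) where
  toFun := autOf σ
  map_one' := Iso.ext (Over.OverMorphism.ext (mor_one σ))
  map_mul' u v := Iso.ext (Over.OverMorphism.ext (mor_mul σ u v).symm)

theorem autHom_eq_one_iff (u : Aˣ) :
    autHom σ u = 1 ↔ ∀ (R : Type u) [CommRing R] [Algebra k R] (N : BrSev.SBSet k A c R), twist R u N = N := by
  constructor
  · intro h R _ _ N
    obtain ⟨g, rfl⟩ := (σ.bij R).surjective N
    have h1 : (ptsEnd σ u).mor = 𝟙 X := congrArg (fun a : Aut (Over.mk p) => a.hom.left) h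
    have h2 := (ptsEnd σ u).pts_comp_mor g
    rw [h1, Category.comp_id, ptsEnd_app] at h2
    exact ((σ.bij R).eq_symm_apply.1 (Subtype.ext h2)).symm
  · intro h
    refine Iso.ext (Over.OverMorphism.ext ?_)
    exact mor_eq_id _ fun R _ _ g => by rw [ptsEnd_app, h, Equiv.symm_apply_apply]

theorem mem_range_of_map {K : Type u} [Field K] [Algebra k K] {v : A} {a : K}
    (h : (1 : K) ⊗ₜ[k] v = a ⊗ₜ[k] (1 : A)) : v ∈ (algebraMap k A).range := by
  by_contra hv
  have hspan : v ∉ Submodule.span k {(1 : A)} := fun hm => by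
    obtain ⟨r, hr⟩ := Submodule.mem_span_singleton.1 hm
    exact hv ⟨r, by rw [Algebra.algebraMap_eq_smul_one, hr]⟩
  obtain ⟨φ, hφv, hφ⟩ := Submodule.exists_dual_map_eq_bot_of_notMem hspan inferInstance
  have hφ1 : φ 1 = 0 := by
    have := Submodule.mem_map_of_mem (f := φ) (Submodule.mem_span_singleton_self (1 : A))
    rwa [hφ, Submodule.mem_bot] at this
  have h2 := congrArg (fun z => TensorProduct.AlgebraTensorModule.rid k K K (LinearMap.baseChange K φ z)) h
  simp only [LinearMap.baseChange_tmul, TensorProduct.AlgebraTensorModule.rid_tmul, hφ1,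
    zero_smul] at h2
  rcases smul_eq_zero.1 h2 with h3 | h3
  · exact hφv h3
  · exact one_ne_zero h3

theorem ker_autHom [Algebra.IsCentral k A] [IsSimpleRing A] (n : ℕ) (hn : 0 < n)
    (hA : Module.finrank k A = n * n) {X : Scheme.{u}} {p : X ⟶ Spec (CommRingCat.of k)}
    (σ : BrSev.SBStr k A (n * n - n) p) :
    (autHom σ).ker = (Units.map (algebraMap k A : k →* A)).range := by
  ext u
  rw [MonoidHom.mem_ker, autHom_eq_one_iff]
  constructor
  · intro h
    let K := AlgebraicClosure k
    haveI : Module.Finite k A := Module.finite_of_finrank_pos (by rw [hA]; exact Nat.mul_pos hn hn)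
    haveI : IsSimpleRing (K ⊗[k] A) := CSALib.isSimpleRing_baseChange A K
    obtain ⟨m, hm, ⟨e⟩⟩ := IsSimpleRing.exists_algEquiv_matrix_of_isAlgClosed K (K ⊗[k] A)
    have hmn : m = n := by
      have h1 := e.toLinearEquiv.finrank_eq
      rw [Module.finrank_baseChange, hA, Module.finrank_matrix, Module.finrank_self, mul_one, Fintype.card_fin] at h1
      exact (Nat.mul_self_inj.1 h1).symm
    subst hmn
    let U : Matrix (Fin m) (Fin m) K := e ((1 : K) ⊗ₜ[k] ((u⁻¹ : Aˣ) : A))
    have key : ∀ v : Fin m → K, v ≠ 0 → ∃ a : K, Matrix.vecMul v U = a • v := by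
      intro v hv
      obtain ⟨i, hi⟩ := Function.ne_iff.1 hv
      let L : (Fin m → K) →ₗ[K] (K ⊗[k] A) :=
        e.symm.toLinearMap.comp (M₂ := Matrix (Fin m) (Fin m) K) (σ₁₂ := RingHom.id K)
          { toFun := fun a => Matrix.vecMulVec a v
            map_add' := fun a b => Matrix.add_vecMulVec a b v
            map_smul' := fun r a => (Matrix.smul_vecMulVec r a v) }
      have hL : ∀ a, L a = e.symm (Matrix.vecMulVec a v) := fun a => rfl
      have hLi : Function.Injective L := by
        intro a b hab
        rw [hL, hL] at hab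
        funext j
        have := congrFun (congrFun (e.symm.injective hab) j) i
        exact mul_right_cancel₀ hi this
      have hfr : Module.finrank K ((K ⊗[k] A) ⧸ LinearMap.range L) = m * m - m := by
        rw [Submodule.finrank_quotient, Module.finrank_baseChange, hA, LinearMap.finrank_range_of_inj hLi,
          Module.finrank_pi, Fintype.card_fin]
      let N : BrSev.SBSet k A (m * m - m) K :=
        ⟨{ toSubmodule := LinearMap.range L
           finite_quotient := inferInstance
           projective_quotient := Module.Projective.of_free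
           rankAtStalk_eq := fun q => by rw [Module.rankAtStalk_eq_finrank_of_free, hfr]; rfl }, by
          rintro a _ ⟨w, rfl⟩
          refine ⟨Matrix.mulVec (e a) w, ?_⟩
          rw [hL, hL, ← Matrix.mul_vecMulVec, map_mul, e.symm_apply_apply]⟩
      have hN := congrArg (fun M : BrSev.SBSet k A (m * m - m) K => M.1.toSubmodule) (h K N)
      have hmem : rmul K u (L (Pi.single i 1)) ∈ LinearMap.range L :=
        hN.le (Submodule.mem_map_of_mem (f := (rmul K u).toLinearMap) ⟨_, rfl⟩)
      obtain ⟨w, hw⟩ := hmem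
      rw [rmul_apply, hL, hL] at hw
      have h3 := congrArg e hw
      rw [map_mul, e.apply_symm_apply, e.apply_symm_apply, Matrix.vecMulVec_mul] at h3
      refine ⟨w i, funext fun j => ?_⟩
      have h4 := congrFun (congrFun h3 i) j
      simp [Matrix.vecMulVec_apply] at h4
      simpa using h4.symm
    have hdiag : ∀ i j : Fin m, i ≠ j → U i j = 0 := by
      intro i j hij
      obtain ⟨a, ha⟩ := key (Pi.single i 1) (by simp)
      have := congrFun ha j
      simpa [hij.symm] using this
    haveI : NeZero m := ⟨hn.ne'⟩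
    obtain ⟨a, ha⟩ := key (fun _ => 1) (Function.ne_iff.2 ⟨0, one_ne_zero⟩)
    have hU : U = algebraMap K _ a := by
      ext i j
      rw [Matrix.algebraMap_matrix_apply]
      by_cases hij : i = j
      · subst hij
        have := congrFun ha i
        rw [Matrix.vecMul, dotProduct, Finset.sum_eq_single i (fun b _ hb => by rw [hdiag b i hb, mul_zero]) (by simp)] at this
        simpa using this
      · rw [hdiag i j hij, if_neg hij]
    have hu : (1 : K) ⊗ₜ[k] ((u⁻¹ : Aˣ) : A) = a ⊗ₜ[k] (1 : A) := by
      apply e.injective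
      rw [show e ((1 : K) ⊗ₜ[k] ((u⁻¹ : Aˣ) : A)) = U from rfl, hU, ← e.commutes a]
      rfl
    obtain ⟨r, hr⟩ := mem_range_of_map hu
    haveI : Nontrivial A := inferInstance
    have hr0 : r ≠ 0 := fun h0 => (u⁻¹).ne_zero (by rw [← hr, h0, map_zero])
    refine ⟨(Units.mk0 r hr0)⁻¹, ?_⟩
    rw [map_inv, ← inv_inv u]
    exact congrArg (·⁻¹) (Units.ext hr)
  · rintro ⟨r, rfl⟩ R _ _ N
    refine sbset_ext ?_
    rw [twist_val]
    have hr : ∀ z : R ⊗[k] A, rmul R (Units.map (algebraMap k A : k →* A) r) z = algebraMap k R ((r⁻¹ : kˣ) : k) • z := by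
      intro z
      rw [rmul_apply, ← map_inv, show ((Units.map (algebraMap k A : k →* A) r⁻¹ : Aˣ) : A) = algebraMap k A ((r⁻¹ : kˣ) : k) from rfl,
        Algebra.algebraMap_eq_smul_one, TensorProduct.tmul_smul, ← Algebra.TensorProduct.one_def, mul_smul_comm, mul_one,
        algebraMap_smul]
    refine le_antisymm ?_ fun z hz => ?_
    · rintro _ ⟨z, hz, rfl⟩
      rw [LinearEquiv.coe_coe, hr]
      exact Submodule.smul_mem _ _ hz
    · refine ⟨algebraMap k R (r : k) • z, Submodule.smul_mem _ _ hz, ?_⟩
      rw [LinearEquiv.coe_coe, hr, smul_smul, ← map_mul, Units.inv_mul, map_one, one_smul]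

end

end SBActLib
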