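import Mathlib.AlgebraicGeometry.AffineScheme
import Mathlib.AlgebraicGeometry.Gluing
import Mathlib.AlgebraicGeometry.Pullbacks
import Groth.Prelude.Def_BrSev2

/-!
# Automorphisms of a scheme from automorphisms of its functor of points on algebras
-/

set_option autoImplicit false

universe u

open CategoryTheory CategoryTheory.Limits AlgebraicGeometry

namespace SBActLib

noncomputable section

variable {k : Type u} [Field k] {X : Scheme.{u}} (p : X ⟶ Spec (CommRingCat.of k))

/-- A natural self-map of the points with values in `k`-algebras. -/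
structure PtsEnd where
  /-- the map on points -/
  app : ∀ (R : Type u) [CommRing R] [Algebra k R], BrSev.Pts p R → BrSev.Pts p R
  natural : ∀ (R S : Type u) [CommRing R] [Algebra k R] [CommRing S] [Algebra k S] (φ : R →ₐ[k] S)
    (g : BrSev.Pts p R), app S (BrSev.Pts.map p φ g) = BrSev.Pts.map p φ (app R g)

variable {p}

/-- The algebra structure defined by a point. -/
@[reducible] def algOf {R : CommRingCat.{u}} (x : Spec R ⟶ X) (p : X ⟶ Spec (CommRingCat.of k)) : Algebra k R :=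
  (Spec.preimage (x ≫ p)).hom.toAlgebra

/-- A point as a point over `k`. -/
def toPts {R : CommRingCat.{u}} (x : Spec R ⟶ X) : @BrSev.Pts k _ X p R _ (algOf x p) :=
  letI := algOf x p
  ⟨x, by
    show x ≫ p = Spec.map (CommRingCat.ofHom (Spec.preimage (x ≫ p)).hom)
    rw [CommRingCat.ofHom_hom, Spec.map_preimage]⟩

namespace PtsEnd

variable (F : PtsEnd p)

/-- The induced map on all affine-scheme valued morphisms. -/
def Φ {R : CommRingCat.{u}} (x : Spec R ⟶ X) : Spec R ⟶ X :=
  letI := algOf x p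
  (F.app R (toPts x)).1

theorem Φ_struct {R : CommRingCat.{u}} (x : Spec R ⟶ X) : F.Φ x ≫ p = x ≫ p := by
  let _ := algOf x p
  exact (F.app R (toPts x)).2.trans (toPts (p := p) x).2.symm

theorem Φ_map {R S : CommRingCat.{u}} (ψ : R ⟶ S) (x : Spec R ⟶ X) :
    F.Φ (Spec.map ψ ≫ x) = Spec.map ψ ≫ F.Φ x := by
  let _ := algOf x p
  let _ := algOf (Spec.map ψ ≫ x) p
  let φ : R →ₐ[k] S :=
    { ψ.hom with
      commutes' := fun c => by
        have h : Spec.preimage ((Spec.map ψ ≫ x) ≫ p) = Spec.preimage (x ≫ p) ≫ ψ := Spec.map_injective (by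
          rw [Spec.map_preimage, Spec.map_comp, Spec.map_preimage, Category.assoc])
        exact (congrArg (fun t : CommRingCat.of k ⟶ S => t.hom c) h).symm }
  have hp : BrSev.Pts.map p φ (toPts x) = toPts (Spec.map ψ ≫ x) := Subtype.ext rfl
  have h := F.natural R S φ (toPts x)
  rw [hp] at h
  exact congrArg Subtype.val h

theorem Φ_eq {R : Type u} [CommRing R] [a : Algebra k R] (g : BrSev.Pts p R) :
    F.Φ (R := CommRingCat.of R) g.1 = (F.app R g).1 := by
  have ha : algOf (R := CommRingCat.of R) g.1 p = a := by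
    refine Algebra.algebra_ext _ _ fun c => ?_
    show (Spec.preimage (g.1 ≫ p)).hom c = @algebraMap k R _ _ a c
    rw [show Spec.preimage (g.1 ≫ p) = CommRingCat.ofHom (@algebraMap k R _ _ a) from
      Spec.map_injective (by rw [Spec.map_preimage]; exact g.2)]
    rfl
  have key : ∀ (b : Algebra k R) (g' : @BrSev.Pts k _ X p R _ b), b = a → g'.1 = g.1 →
      (@PtsEnd.app k _ X p F R _ b g').1 = (@PtsEnd.app k _ X p F R _ a g).1 := by
    rintro b g' rfl h
    rw [Subtype.ext h]
  exact key _ (toPts (R := CommRingCat.of R) g.1) ha rfl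

/-- The induced map on morphisms out of affine schemes. -/
def Ψ {T : Scheme.{u}} [IsAffine T] (x : T ⟶ X) : T ⟶ X := T.isoSpec.hom ≫ F.Φ (T.isoSpec.inv ≫ x)

theorem Ψ_struct {T : Scheme.{u}} [IsAffine T] (x : T ⟶ X) : F.Ψ x ≫ p = x ≫ p := by
  rw [Ψ, Category.assoc, Φ_struct, Category.assoc, Iso.hom_inv_id_assoc]

theorem Ψ_comp {T T' : Scheme.{u}} [IsAffine T] [IsAffine T'] (m : T' ⟶ T) (x : T ⟶ X) :
    F.Ψ (m ≫ x) = m ≫ F.Ψ x := by
  rw [Ψ, Ψ, ← Category.assoc T'.isoSpec.inv, ← Scheme.isoSpec_inv_naturality, Category.assoc, Φ_map,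
    ← Category.assoc, Scheme.isoSpec_hom_naturality, Category.assoc]

theorem Ψ_spec {R : CommRingCat.{u}} (x : Spec R ⟶ X) : F.Ψ x = F.Φ x := by
  rw [Ψ]
  obtain ⟨ψ, hψ⟩ : ∃ ψ, Spec.map ψ = (Spec R).isoSpec.inv := ⟨_, Spec.map_preimage _⟩
  rw [← hψ, Φ_map, hψ, Iso.hom_inv_id_assoc]

/-- The morphism given by a natural self-map of points. -/
def mor : X ⟶ X :=
  X.affineCover.glueMorphisms (fun i => F.Ψ (X.affineCover.f i)) fun i j => by
    refine Scheme.Cover.hom_ext (Scheme.affineCover _) _ _ fun l => ?_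
    rw [← Category.assoc, ← Ψ_comp, ← Category.assoc _ (pullback.snd _ _), ← Ψ_comp]
    congr 1
    rw [Category.assoc, Category.assoc, pullback.condition]

theorem mor_struct : F.mor ≫ p = p := by
  refine Scheme.Cover.hom_ext X.affineCover _ _ fun i => ?_
  rw [mor, Scheme.Cover.ι_glueMorphisms_assoc, Ψ_struct]

theorem comp_mor {T : Scheme.{u}} [IsAffine T] (x : T ⟶ X) : x ≫ F.mor = F.Ψ x := by
  refine Scheme.Cover.hom_ext (X.affineCover.pullback₁ x) _ _ fun i => ?_
  refine Scheme.Cover.hom_ext (Scheme.affineCover _) _ _ fun l => ?_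
  show _ ≫ pullback.fst x (X.affineCover.f i) ≫ x ≫ F.mor = _ ≫ pullback.fst x (X.affineCover.f i) ≫ F.Ψ x
  rw [← Category.assoc _ (pullback.fst _ _) (F.Ψ x), ← Ψ_comp]
  rw [reassoc_of% (pullback.condition (f := x) (g := X.affineCover.f i)), mor, Scheme.Cover.ι_glueMorphisms,
    ← Category.assoc, ← Ψ_comp]
  congr 1
  rw [Category.assoc, Category.assoc, pullback.condition]

theorem pts_comp_mor {R : Type u} [CommRing R] [Algebra k R] (g : BrSev.Pts p R) :
    g.1 ≫ F.mor = (F.app R g).1 := by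
  rw [comp_mor, Ψ_spec (R := CommRingCat.of R), Φ_eq]

end PtsEnd

theorem mor_eq_id (F : PtsEnd p) (h : ∀ (R : Type u) [CommRing R] [Algebra k R] (g : BrSev.Pts p R), F.app R g = g) :
    F.mor = 𝟙 X := by
  refine Scheme.Cover.hom_ext X.affineCover _ _ fun i => ?_
  rw [F.comp_mor, Category.comp_id, PtsEnd.Ψ, PtsEnd.Φ, h]
  show _ ≫ _ ≫ _ = _
  rw [Iso.hom_inv_id_assoc]

theorem mor_comp_mor (F G H : PtsEnd p)
    (h : ∀ (R : Type u) [CommRing R] [Algebra k R] (g : BrSev.Pts p R), H.app R g = G.app R (F.app R g)) :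
    F.mor ≫ G.mor = H.mor := by
  refine Scheme.Cover.hom_ext X.affineCover _ _ fun i => ?_
  rw [← Category.assoc, F.comp_mor, H.comp_mor, PtsEnd.Ψ, PtsEnd.Ψ, Category.assoc]
  congr 1
  rw [PtsEnd.Φ, PtsEnd.Φ]
  rw [@h _ _ (algOf _ p), @PtsEnd.pts_comp_mor k _ X p G _ _ (algOf _ p)]

end

end SBActLib
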